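import Cfsg.Agent.Lib.Helper19.O7.Vec
import Cfsg.Agent.Lib.Helper19.Sp4.LB
import Cfsg.Agent.Lib.Helper19.Fi22c.DataB

/-! Checks. -/

set_option autoImplicit false
set_option maxRecDepth 1000000

namespace Cfsg.Agent.Lib.Helper19.O7

open Cfsg.Agent.Lib.Helper19.TCS
open Cfsg.Agent.Lib.Helper19.Sp4 (flat)
open Cfsg.Agent.Lib.Helper19

theorem okE : loop (fun k => loop (fun j => Nat.beq (TC2.fB Fi22c.cB (Nat.succ k) (fld 12 4095 tE j))
    (fld 12 4095 tE (fB cR k j))) 0 351) 0 8 = true := by decide +kernel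

theorem okE_lt : loop (fun j => Nat.blt (fld 12 4095 tE j) 3510) 0 351 = true := by decide +kernel

theorem okR_lt : loop (fun k => loop (fun j => Nat.blt (fB cR k j) 351) 0 351) 0 8 = true := by
  decide +kernel

theorem okE_nd : ((List.range 351).map (fld 12 4095 tE)).Nodup := by decide +kernel

theorem okT1 : ∀ c : Fin 2187, Q7 (dec7 c.1) = 2 →
    ixc c.1 < 351 ∧ (dec7 c.1 = vt (ixc c.1) ∨ dec7 c.1 = -vt (ixc c.1)) := by decide +kernel

theorem okT2 : ∀ j : Fin 351, Q7 (vt j.1) = 2 ∧ ixc (enc7 (vt j.1)) = j.1 ∧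
    ixc (enc7 (-vt j.1)) = j.1 := by decide +kernel

theorem okM : ∀ k : Fin 8, ∀ j : Fin 351, tf (vt (selN ptl k.1)) (vt j.1) = vt (fB cR k.1 j.1) ∨
    tf (vt (selN ptl k.1)) (vt j.1) = -vt (fB cR k.1 j.1) := by decide +kernel

theorem okTree : ∀ j : Fin 351, j.1 = 0 ∨ (fld 12 4095 tPAR j.1 < j.1 ∧ fld 12 4095 tLET j.1 < 8 ∧
    fB cR (fld 12 4095 tLET j.1) (fld 12 4095 tPAR j.1) = j.1) := by decide +kernel

theorem ptl_lt : ∀ k : Fin 8, selN ptl k.1 < 351 := by decide +kernel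

def bas : List ℕ := [1, 3, 9, 27, 81, 243, 729]

def rels : List (List ℕ) := [[0, 1, 0, 1, 0, 1], [1, 2, 1, 2, 1, 2], [2, 3, 2, 3, 2, 3],
  [3, 4, 3, 4, 3, 4], [4, 5, 4, 5, 4, 5], [2, 6, 2, 6, 2, 6], [6, 7, 6, 7, 6, 7],
  (List.replicate 9 [0, 1, 2, 3, 4, 5, 6]).flatten]

theorem okRel : ∀ w ∈ rels, ∀ c ∈ bas, appc w c = c := by decide +kernel

theorem rels_lt : ∀ w ∈ rels, ∀ k ∈ w, k < 8 := by decide +kernel

theorem hJ0 : ∀ w ∈ ws0, ∀ k ∈ w, k < 8 := by decide +kernel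
theorem hs1 : ∀ w ∈ ws1, w ∈ ws0 := by decide +kernel
theorem hs2 : ∀ w ∈ ws2, w ∈ ws1 := by decide +kernel
theorem hs3 : ∀ w ∈ ws3, w ∈ ws2 := by decide +kernel
theorem hs4 : ∀ w ∈ ws4, w ∈ ws3 := by decide +kernel
theorem hs5 : ∀ w ∈ ws5, w ∈ ws4 := by decide +kernel
theorem hf1 : ∀ w ∈ ws1, app cR w 0 = 0 := by decide +kernel
theorem hf2 : ∀ w ∈ ws2, app cR w 1 = 1 := by decide +kernel
theorem hf3 : ∀ w ∈ ws3, app cR w 3 = 3 := by decide +kernel
theorem hf4 : ∀ w ∈ ws4, app cR w 5 = 5 := by decide +kernel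
theorem hf5 : ∀ w ∈ ws5, app cR w 6 = 6 := by decide +kernel
theorem hl0 : pa0.length = 351 := by decide +kernel
theorem hl1 : pa1.length = 224 := by decide +kernel
theorem hl2 : pa2.length = 81 := by decide +kernel
theorem hl3 : pa3.length = 30 := by decide +kernel
theorem hl4 : pa4.length = 12 := by decide +kernel
theorem hl5 : pa5.length = 2 := by decide +kernel
theorem hn0 : (pa0.map (fun p => app cR (flat ws0 p) 0)).Nodup := by decide +kernel
theorem hn1 : (pa1.map (fun p => app cR (flat ws1 p) 1)).Nodup := by decide +kernel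
theorem hn2 : (pa2.map (fun p => app cR (flat ws2 p) 3)).Nodup := by decide +kernel
theorem hn3 : (pa3.map (fun p => app cR (flat ws3 p) 5)).Nodup := by decide +kernel
theorem hn4 : (pa4.map (fun p => app cR (flat ws4 p) 6)).Nodup := by decide +kernel
theorem hn5 : (pa5.map (fun p => app cR (flat ws5 p) 10)).Nodup := by decide +kernel

end Cfsg.Agent.Lib.Helper19.O7
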